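import Cfsg.Agent.Lib.Co0Std.Trich
import Cfsg.Agent.Lib.Co1Out.Main

/-!
Facts on `2·Co₁` for the standard component problem: the classes of elements whose square is central, a few
explicit sign changes, and the centraliser of the sign change of a complement of an octad.
-/

set_option autoImplicit false
set_option maxRecDepth 20000

namespace Cfsg.Agent.Co0Std

open Cfsg Cfsg.Agent.Golay Cfsg.Agent.Leech Cfsg.Agent.PermCert
open Cfsg.Agent.Co1Endgame (Mo okMo monoP moEl moEl_eq uMo bMo idElt full)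

open Cfsg.Agent.E8Cent (piH piH_eq t0 Cc rho phiC negC)
open Cfsg.Agent.Co1Out (negCo0_commute negCo0_mul_self)
open scoped Pointwise

attribute [local irreducible] E8Cent.e8Gens E8Cent.e8Derived E8Cent.e8Levels E8Cent.rootList

/-! ### Signs -/

/-- The code word of a mask. -/
def wd (m : ℕ) (h : inCode m = true) : golayCode := ⟨ofMask m, ofMask_mem_golayCode h⟩

/-- The sign change on a mask. -/
noncomputable def dg (m : ℕ) (h : inCode m = true) : Co0 := Leech.diag (wd m h)

theorem dg_mul {a b c : ℕ} (ha : inCode a = true) (hb : inCode b = true) (hc : inCode c = true)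
    (e : a ^^^ b = c) : dg a ha * dg b hb = dg c hc := by
  rw [dg, dg, dg, ← diag_add]
  exact congrArg (fun w => mono (1, w)) (Subtype.ext (by show ofMask a + ofMask b = ofMask c; rw [← e, ofMask_xor]))

theorem dg_sq {a : ℕ} (ha : inCode a = true) : dg a ha * dg a ha = 1 := by
  have h0 : inCode 0 = true := by decide +kernel
  rw [dg_mul ha ha h0 (Nat.xor_self a), dg, ← diag_zero]
  exact congrArg (fun w => mono (1, w)) (Subtype.ext ofMask_zero)

theorem dg_comm {a b : ℕ} (ha : inCode a = true) (hb : inCode b = true) :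
    Commute (dg a ha) (dg b hb) := by
  show Leech.diag _ * Leech.diag _ = Leech.diag _ * Leech.diag _
  rw [← diag_add, ← diag_add, add_comm]

theorem neg_eq : negCo0 = dg full (by decide +kernel) := by
  rw [negCo0, dg]
  exact congrArg (fun w => mono (1, w)) (Subtype.ext one_eq)

theorem x_code : inCode E8Cent.xMask = true ∧ inCode E8Cent.oMask = true := E8Cent.x_code

theorem t0_eq : t0 = dg E8Cent.xMask x_code.1 := rfl

/-- The sign change of an octad. -/
noncomputable def e0 : Co0 := t0 * negCo0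

theorem e0_eq : e0 = dg E8Cent.oMask x_code.2 := by
  rw [e0, neg_eq, t0_eq]
  exact dg_mul _ _ _ (by decide +kernel)

theorem conj_of_map {σ : Equiv.Perm GolayPt} (hσ : σ ∈ M24) {m n : ℕ} (hm : inCode m = true)
    (hn : inCode n = true) (h : σ • maskSet m = maskSet n) : IsConj (dg m hm) (dg n hn) := by
  have hw : ∀ p, ofMask n (σ p) = ofMask m p := fun p => by
    have e : σ p ∈ maskSet n ↔ p ∈ maskSet m := by
      rw [← h]; exact Finset.smul_mem_smul_finset_iff σ
    simp only [mem_maskSet] at e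
    simp only [ofMask]
    by_cases h' : m.testBit (idx p) = true
    · rw [if_pos h', if_pos (e.2 h')]
    · rw [if_neg h', if_neg fun h'' => h' (e.1 h'')]
  refine isConj_iff.2 ⟨mono (⟨σ, hσ⟩, 0), ?_⟩
  rw [mul_inv_eq_iff_eq_mul, dg, dg, Leech.diag, mono_mul, mono_mul]
  refine congrArg mono (Prod.ext (Subtype.ext ?_) (Subtype.ext (funext fun q => ?_)))
  · simp [pairMul]
  · obtain ⟨p, rfl⟩ := σ.surjective q
    simp [pairMul, wd, Equiv.Perm.one_def, hw p]

theorem mask_octad {m : ℕ} (h1 : inCode m = true) (h2 : popCount m 24 = 8) : maskSet m ∈ octads :=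
  mem_octads.2 ⟨m, mem_octadList.2 ⟨inCode_iff.1 h1, h2⟩, rfl⟩

theorem octad_conj {m n : ℕ} (hm : inCode m = true) (hn : inCode n = true) (h8 : popCount m 24 = 8)
    (h8' : popCount n 24 = 8) : IsConj (dg m hm) (dg n hn) := by
  obtain ⟨g, hg, h⟩ := exists_M24_octad (mask_octad hm h8) (mask_octad hn h8')
  exact conj_of_map hg hm hn h

theorem sq_code : inCode sqMask = true := by decide +kernel

/-- The sign change of a dodecad. -/
noncomputable def u0 : Co0 := dg sqMask sq_code

theorem dodecad_conj {m : ℕ} (hm : inCode m = true) (h : popCount m 24 = 12) : IsConj u0 (dg m hm) := by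
  obtain ⟨g, hg, e⟩ := exists_M24_dodecad (d := maskSet m)
    (mem_dodecads.2 ⟨m, mem_dodecadList.2 ⟨inCode_iff.1 hm, h⟩, rfl⟩)
  rw [squareDodecad_eq] at e
  exact conj_of_map hg sq_code hm e

theorem conj_e0 {m : ℕ} (hm : inCode m = true) (h : popCount m 24 = 8) : IsConj e0 (dg m hm) :=
  e0_eq ▸ octad_conj x_code.2 hm (by decide +kernel) h

theorem conj_neg {a b : Co0} (h : IsConj a b) : IsConj (a * negCo0) (b * negCo0) := by
  obtain ⟨k, rfl⟩ := isConj_iff.1 h
  refine isConj_iff.2 ⟨k, ?_⟩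
  simp only [mul_assoc]
  rw [negCo0_commute k⁻¹]

theorem e0_neg : e0 * negCo0 = t0 := by rw [e0, mul_assoc, negCo0_mul_self, mul_one]

theorem conj_t0 {m : ℕ} (hm : inCode m = true) (hn : inCode (m ^^^ full) = true)
    (h : popCount (m ^^^ full) 24 = 8) : IsConj t0 (dg m hm) := by
  have := conj_neg (conj_e0 hn h)
  rwa [e0_neg, neg_eq, dg_mul hn _ hm (by rw [Nat.xor_assoc, Nat.xor_self, Nat.xor_zero])] at this

theorem u0_neg : IsConj u0 (u0 * negCo0) := by
  rw [neg_eq, show u0 = dg sqMask sq_code from rfl,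
    dg_mul sq_code _ (by decide +kernel : inCode (sqMask ^^^ full) = true) rfl]
  exact dodecad_conj _ (by decide +kernel)

/-! ### The fourth class -/

/-- A monomial element of square `-1`. -/
noncomputable def b0 : Co0 := mono (monoP bMo bMo_ok)

theorem b0_sq : b0 * b0 = negCo0 := b_lift

theorem oct_code : inCode 15777 = true ∧ inCode (15777 ^^^ full) = true := by decide +kernel

theorem b0_dg : Commute b0 (dg 15777 oct_code.1) := by
  show b0 * dg _ _ = dg _ _ * b0
  rw [b0, dg, Leech.diag, mono_mul, mono_mul]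
  refine congrArg mono (Prod.ext (Subtype.ext ?_) (Subtype.ext ?_))
  · simp [pairMul, monoP]
  · funext i
    show ofMask bMo.1 i + ofMask 15777 ((permOf bMo.2).symm i) = ofMask 15777 i + ofMask bMo.1 i
    rw [congrFun (Co1Endgame.ofMask_img (Co1Endgame.okMo_parts bMo_ok).1 15777) i,
      show imgMask bMo.2 15777 = 15777 by decide +kernel, add_comm]

/-! ### The classes -/

theorem neg_ne_one : negCo0 ≠ 1 := negCo0_ne_one

theorem center_conj (k : Co0) : k * negCo0 * k⁻¹ = negCo0 := by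
  rw [← negCo0_commute k, mul_inv_cancel_right]

theorem lift_cases {y r : Co0} (h : IsConj (piH r) (piH y)) : IsConj r y ∨ IsConj (r * negCo0) y := by
  obtain ⟨g, hg⟩ := isConj_iff.1 h
  obtain ⟨k, rfl⟩ : ∃ k, piH k = g := QuotientGroup.mk'_surjective _ g
  rw [← map_mul, ← map_inv, ← map_mul, piH_eq] at hg
  rcases hg with e | e
  · exact Or.inl (isConj_iff.2 ⟨k, e.symm⟩)
  · refine Or.inr (isConj_iff.2 ⟨k, ?_⟩)
    rw [e]
    simp only [mul_assoc]
    rw [negCo0_commute k⁻¹]

theorem classes {y : Co0} (hy : y * y = 1 ∨ y * y = negCo0) (h1 : y ≠ 1) (h2 : y ≠ negCo0) :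
    (y * y = 1 ∧ (IsConj t0 y ∨ IsConj e0 y ∨ IsConj u0 y)) ∨
      (y * y = negCo0 ∧ (IsConj b0 y ∨ IsConj (b0 * negCo0) y)) := by
  have hx : orderOf (piH y) = 2 := by
    refine orderOf_eq_prime ?_ fun e => ?_
    · rw [pow_two, ← map_mul, ← map_one piH, piH_eq]
      rcases hy with e | e <;> rw [e]
      · exact Or.inl rfl
      · exact Or.inr negCo0_mul_self.symm
    · rw [← map_one piH, piH_eq] at e
      rcases e with e | e
      · exact h1 e.symm
      · refine h2 ?_
        have := congrArg (· * negCo0) e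
        simpa only [one_mul, mul_assoc, negCo0_mul_self, mul_one] using this.symm
  have hsq : ∀ r c : Co0, IsConj r y → r * r = c → (∀ k : Co0, k * c * k⁻¹ = c) → y * y = c :=
    fun r c h e hc => by
      obtain ⟨k, rfl⟩ := isConj_iff.1 h
      rw [show k * r * k⁻¹ * (k * r * k⁻¹) = k * (r * r) * k⁻¹ by group, e, hc]
  have hneg : ∀ r : Co0, (r * negCo0) * (r * negCo0) = r * r := fun r => by
    rw [mul_assoc, ← mul_assoc negCo0, negCo0_commute r, mul_assoc r negCo0, negCo0_mul_self, mul_one]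
  rcases trichotomy hx with h | h | h
  · refine Or.inl ⟨?_, ?_⟩ <;> rcases lift_cases (r := t0) h.symm with e | e
    · exact hsq _ 1 e E8Cent.t0_sq fun k => by group
    · exact hsq _ 1 e ((hneg t0).trans E8Cent.t0_sq) fun k => by group
    · exact Or.inl e
    · exact Or.inr (Or.inl e)
  · have hu : piH u0 = moEl uMo := by
      rw [moEl_eq uMo_ok]
      refine congrArg piH (congrArg mono (Prod.ext (Subtype.ext ?_) (Subtype.ext rfl)))
      exact idElt_perm.symm
    rw [← hu] at h
    have hu2 : u0 * u0 = 1 := dg_sq _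
    refine Or.inl ⟨?_, Or.inr (Or.inr ?_)⟩ <;> rcases lift_cases h.symm with e | e
    · exact hsq _ 1 e hu2 fun k => by group
    · exact hsq _ 1 e ((hneg u0).trans hu2) fun k => by group
    · exact e
    · exact u0_neg.trans e
  · rw [moEl_eq bMo_ok] at h
    refine Or.inr ⟨?_, lift_cases (r := b0) h.symm⟩
    rcases lift_cases (r := b0) h.symm with e | e
    · exact hsq _ _ e b0_sq center_conj
    · exact hsq _ _ e ((hneg b0).trans b0_sq) center_conj

/-- The involutions outside the centre. -/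
theorem classes_one {y : Co0} (hy : y * y = 1) (h1 : y ≠ 1) (h2 : y ≠ negCo0) :
    IsConj t0 y ∨ IsConj e0 y ∨ IsConj u0 y := by
  rcases classes (Or.inl hy) h1 h2 with h | h
  · exact h.2
  · exact absurd (h.1.symm.trans hy) neg_ne_one

theorem b0_neg : IsConj b0 (b0 * negCo0) := by
  have hm : inCode bMo.1 = true := by decide +kernel
  refine isConj_iff.2 ⟨dg bMo.1 hm, ?_⟩
  rw [mul_inv_eq_iff_eq_mul, b0, dg, Leech.diag, Co1Endgame.negCo0_mul, mono_mul, mono_mul]
  refine congrArg mono (Prod.ext (Subtype.ext ?_) (Subtype.ext ?_))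
  · simp [pairMul, monoP]
  · funext i
    show ofMask bMo.1 i + ofMask bMo.1 ((1 : Equiv.Perm GolayPt).symm i) =
      ofMask bMo.1 i + (1 : GolayPt → ZMod 2) i + ofMask bMo.1 ((permOf bMo.2).symm i)
    rw [congrFun (Co1Endgame.ofMask_img (Co1Endgame.okMo_parts bMo_ok).1 bMo.1) i,
      show imgMask bMo.2 bMo.1 = bMo.1 ^^^ full by decide +kernel, ofMask_xor, one_eq]
    simp only [Equiv.Perm.one_apply, Pi.add_apply]
    have e2 : ∀ a b : ZMod 2, a + a = a + b + (a + b) := by decide
    exact e2 _ _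

theorem classes_neg {y : Co0} (hy : y * y = negCo0) : IsConj b0 y := by
  have h1 : y ≠ 1 := fun e => neg_ne_one (by rw [← hy, e, one_mul])
  have h2 : y ≠ negCo0 := fun e => neg_ne_one (by rw [← hy, e, negCo0_mul_self])
  rcases classes (Or.inr hy) h1 h2 with h | ⟨-, h | h⟩
  · exact absurd (hy.symm.trans h.1) neg_ne_one
  · exact h
  · exact b0_neg.trans h

/-! ### The centraliser of `t0` -/

theorem t0_ne_neg : t0 ≠ negCo0 := fun e => by
  have := congrArg piH e
  rw [show piH negCo0 = piH 1 from (piH_eq.2 (Or.inr (one_mul _).symm)).symm, map_one] at this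
  have h := E8Cent.z1_order
  rw [E8Cent.z1, this, orderOf_one] at h
  norm_num at h

theorem pCore_C1 : Cfsg.pCore 2 E8Cent.C1 = E8Cent.Q1 := by
  have : Fact (Nat.Prime 2) := ⟨Nat.prime_two⟩
  obtain ⟨hn, ⟨E⟩⟩ := E8Cent.quot_equiv
  have := E8Cent.simple_o82
  have : IsSimpleGroup (E8Cent.C1 ⧸ E8Cent.Q1) := E.isSimpleGroup
  refine E8Cent.pCore_eq_of_simple (IsPGroup.of_card (n := 9) ?_) (E8Cent.not_isPGroup_of_three ?_)
  · rw [← Nat.card_congr E8Cent.kerEquiv.toEquiv, E8Cent.card_ker]; norm_num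
  · rw [Nat.card_congr E.toEquiv, cert_card SchurMult.o82_cert, SchurMult.o82_order]; norm_num

/-- An element of a normal 2-subgroup of the centraliser has square `1` or `t0`. -/
theorem core_sq (K : Subgroup Cc) [K.Normal] (hK : IsPGroup 2 K) {a : Cc} (ha : a ∈ K) :
    (a : Co0) * a = 1 ∨ (a : Co0) * a = t0 := by
  have h : K.map phiC ≤ Cfsg.pCore 2 E8Cent.C1 :=
    le_sSup ⟨Subgroup.Normal.map inferInstance _ E8Cent.phiC_surj, hK.map _⟩
  rw [pCore_C1] at h
  obtain ⟨q, hq, e⟩ := h ⟨a, ha, rfl⟩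
  have hs : (a : Co0) * a = (q : Co0) * q := by
    rcases E8Cent.phiC_eq.1 e with r | r
    · rw [r]
    · rw [r, ← Subgroup.coe_mul, ← Subgroup.coe_mul, mul_assoc, ← mul_assoc negC, ← E8Cent.negC_comm q,
        mul_assoc q negC, E8Cent.negC_sq, mul_one]
  rw [hs]
  rcases E8Cent.ker_sq ⟨q, hq⟩ with r | r
  · exact Or.inl (congrArg (fun z : rho.ker => ((z : Cc) : Co0)) r)
  · exact Or.inr (congrArg (fun z : rho.ker => ((z : Cc) : Co0)) r)

/-- What commutes with the kernel is one of four elements. -/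
theorem cent_ker {a : Cc} (h : ∀ q ∈ rho.ker, a * q = q * a) :
    (a : Co0) = 1 ∨ (a : Co0) = negCo0 ∨ (a : Co0) = t0 ∨ (a : Co0) = t0 * negCo0 := by
  have hc : phiC a ∈ Subgroup.centralizer (E8Cent.Q1 : Set E8Cent.C1) := by
    refine Subgroup.mem_centralizer_iff.2 ?_
    rintro _ ⟨q, hq, rfl⟩
    rw [← map_mul, ← map_mul, h q hq]
  obtain ⟨q, hq, e⟩ := E8Cent.centralizer_Q1 hc
  have hqa : a = q ∨ a = q * negC := E8Cent.phiC_eq.1 e
  have hcen : ∀ r : rho.ker, (⟨q, hq⟩ : rho.ker) * r = r * ⟨q, hq⟩ := fun r => by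
    refine Subtype.ext ?_
    show q * (r : Cc) = r * q
    rcases hqa with rfl | rfl
    · exact h r r.2
    · refine mul_right_cancel (b := negC) ?_
      rw [mul_assoc, E8Cent.negC_comm r.1, ← mul_assoc, h r r.2, mul_assoc]
  rcases E8Cent.ker_central hcen with r | r <;> rcases hqa with rfl | rfl
  · exact Or.inl (congrArg (fun z : rho.ker => ((z : Cc) : Co0)) r)
  · refine Or.inr (Or.inl ?_)
    rw [Subgroup.coe_mul, show (q : Co0) = 1 from congrArg (fun z : rho.ker => ((z : Cc) : Co0)) r, one_mul]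
    rfl
  · exact Or.inr (Or.inr (Or.inl (congrArg (fun z : rho.ker => ((z : Cc) : Co0)) r)))
  · refine Or.inr (Or.inr (Or.inr ?_))
    rw [Subgroup.coe_mul, show (q : Co0) = t0 from congrArg (fun z : rho.ker => ((z : Cc) : Co0)) r]
    rfl

theorem exists_root : ∃ q ∈ rho.ker, (q : Co0) * q = t0 := by
  by_contra hne
  have hone : ∀ x : rho.ker, x * x = 1 := fun x => (E8Cent.ker_sq x).resolve_right fun e =>
    hne ⟨x, x.2, congrArg (fun z : rho.ker => ((z : Cc) : Co0)) e⟩
  have hinv : ∀ z : rho.ker, z⁻¹ = z := fun z => inv_eq_of_mul_eq_one_right (hone z)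
  have hall : ∀ x : rho.ker, x ∈ Subgroup.zpowers E8Cent.t0k := fun x =>
    E8Cent.mem_zt.2 (E8Cent.ker_central fun y =>
      (hinv (x * y)).symm.trans (by rw [mul_inv_rev, hinv, hinv]))
  have htop : Subgroup.zpowers E8Cent.t0k = ⊤ := eq_top_iff.2 fun x _ => hall x
  have := E8Cent.card_ker
  rw [← Subgroup.card_top, ← htop, Nat.card_zpowers, E8Cent.t0k_order] at this
  norm_num at this

/-- A Sylow 2-subgroup of `2·Co₁` containing the kernel and centralising `t0`. -/
theorem exists_sylow : ∃ T : Subgroup Co0, IsPGroup 2 T ∧ ¬ 2 ∣ T.index ∧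
    rho.ker.map Cc.subtype ≤ T ∧ T ≤ Cc := by
  have : Fact (Nat.Prime 2) := ⟨Nat.prime_two⟩
  obtain ⟨P⟩ : Nonempty (Sylow 2 Cc) := inferInstance
  have hk : rho.ker ≤ P := by
    have hp : IsPGroup 2 rho.ker := IsPGroup.of_card (n := 9) (by rw [E8Cent.card_ker]; norm_num)
    have := P.3 (P.2.to_sup_of_normal_right hp) le_sup_left
    exact this ▸ le_sup_right
  refine ⟨(P : Subgroup Cc).map Cc.subtype, P.2.map _, ?_, Subgroup.map_mono hk, fun x hx => ?_⟩
  · rw [Subgroup.index_map_subtype]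
    refine Nat.prime_two.not_dvd_mul P.not_dvd_index fun h => ?_
    have := Subgroup.card_mul_index Cc
    rw [E8Cent.group_facts.1, card_Co0] at this
    obtain ⟨j, hj⟩ := h
    rw [hj] at this
    omega
  · obtain ⟨y, -, rfl⟩ := hx; exact y.2

/-- Every automorphism is inner. -/
theorem inner (hperf : commutator Co0 = ⊤) (α : MulAut Co0) : ∃ k : Co0, ∀ x, α x = k * x * k⁻¹ := by
  have hmem : ∀ (β : MulAut Co0) (x : Co0), x ∈ Subgroup.center Co0 → β x ∈ Subgroup.center Co0 := by
    intro β x hx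
    refine Subgroup.mem_center_iff.2 fun y => ?_
    obtain ⟨z, rfl⟩ := β.surjective y
    rw [← map_mul, ← map_mul, Subgroup.mem_center_iff.1 hx z]
  have hmap : (Subgroup.center Co0).map α.toMonoidHom = Subgroup.center Co0 := by
    refine le_antisymm ?_ fun x hx => ⟨α.symm x, hmem α.symm x hx, α.apply_symm_apply x⟩
    rintro _ ⟨x, hx, rfl⟩
    exact hmem α x hx
  let γ : MulAut Spor.Co1 := QuotientGroup.congr (Subgroup.center Co0) (Subgroup.center Co0) α hmap
  obtain ⟨g, hg⟩ : γ ∈ Inn Spor.Co1 := Co1Out.inn_eq_top ▸ Subgroup.mem_top _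
  obtain ⟨k, rfl⟩ : ∃ k, piH k = g := QuotientGroup.mk'_surjective _ g
  refine ⟨k, fun x => ?_⟩
  have hx : ∀ x, ∃ c ∈ Subgroup.center Co0, α x = k * x * k⁻¹ * c := fun x => by
    have e : piH k * piH x * (piH k)⁻¹ = piH (α x) := by
      show (MulAut.conj (piH k)) (piH x) = _
      rw [hg]; rfl
    rw [← map_mul, ← map_inv, ← map_mul, piH_eq] at e
    rcases e with e | e
    · exact ⟨1, one_mem _, e.trans (mul_one _).symm⟩
    · exact ⟨_, mem_center_iff.2 (Or.inr rfl), e⟩
  choose ζ hζ hα using hx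
  have hmul : ∀ x y, ζ (x * y) = ζ x * ζ y := fun x y => by
    have e := hα (x * y)
    rw [map_mul, hα x, hα y] at e
    have hc := Subgroup.mem_center_iff.1 (hζ x) (k * y * k⁻¹)
    rw [show k * x * k⁻¹ * ζ x * (k * y * k⁻¹ * ζ y) = k * x * k⁻¹ * (ζ x * (k * y * k⁻¹)) * ζ y by group,
      ← hc, show k * x * k⁻¹ * (k * y * k⁻¹ * ζ x) * ζ y = k * (x * y) * k⁻¹ * (ζ x * ζ y) by group] at e
    exact (mul_left_cancel e).symm
  let f : Co0 →* Subgroup.center Co0 := MonoidHom.mk' (fun x => ⟨ζ x, hζ x⟩) fun x y => Subtype.ext (hmul x y)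
  have : commutator Co0 ≤ f.ker := by
    rw [commutator_def, Subgroup.commutator_le]
    intro a _ b _
    refine (MonoidHom.mem_ker).2 ?_
    rw [map_commutatorElement, commutatorElement_eq_one_iff_mul_comm]
    exact Subtype.ext (Subgroup.mem_center_iff.1 (f b).2 (f a))
  rw [hperf] at this
  have h1 : ζ x = 1 := congrArg Subtype.val (MonoidHom.mem_ker.1 (this (Subgroup.mem_top x)))
  rw [hα x, h1, mul_one]

end Cfsg.Agent.Co0Std
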