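import Cfsg.Agent.Lib.Co0Std.Classes
import Cfsg.Prelude.Def_Local
import Cfsg.Agent.Lib.BrauerSuzuki.ZStar

/-!
A standard subgroup isomorphic to `2·Co₁` whose centraliser has cyclic Sylow 2-subgroups is normal.
-/

set_option autoImplicit false
set_option linter.unusedSectionVars false

namespace Cfsg.Agent.Co0Std

open Cfsg Cfsg.Agent.Golay Cfsg.Agent.Leech
open scoped Pointwise
open Cfsg.Agent.E8Cent (t0 Cc rho)
open Cfsg.Agent.Co1Out (negCo0_commute negCo0_mul_self)
open Cfsg.Agent.Co1Endgame (full)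

variable {G : Type*} [Group G] {A : Subgroup G}

/-- An element commuting with an involution of `C(A)` normalises `A`. -/
theorem mem_normalizer_of_comm [Finite G] {A : Subgroup G} (hA : Cfsg.IsStandardSubgroup A) {z g : G}
    (hz : z ∈ Subgroup.centralizer (A : Set G)) (hz2 : orderOf z = 2) (hg : g * z = z * g) :
    g ∈ Subgroup.normalizer (A : Set G) := by
  obtain ⟨-, ⟨-, hodd⟩, -, hNA⟩ := hA
  rw [hNA]
  by_contra hg'
  refine Nat.not_even_iff_odd.2 (hodd g hg') (even_iff_two_dvd.2 ?_)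
  have hmem : z ∈ Subgroup.centralizer (A : Set G) ⊓
      (Subgroup.centralizer (A : Set G)).map (MulAut.conj g).toMonoidHom :=
    ⟨hz, z, hz, by show g * z * g⁻¹ = z; rw [hg, mul_inv_cancel_right]⟩
  rw [← hz2]
  exact Subgroup.orderOf_dvd_natCard _ hmem

variable (φ : A ≃* Co0)

/-- The embedding. -/
noncomputable def emb : Co0 →* G := A.subtype.comp φ.symm.toMonoidHom

theorem emb_inj : Function.Injective (emb φ) := A.subtype_injective.comp φ.symm.injective

theorem emb_mem (a : Co0) : emb φ a ∈ A := (φ.symm a).2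

theorem emb_surj {g : G} (hg : g ∈ A) : emb φ (φ ⟨g, hg⟩) = g := by simp [emb]

/-- The central involution. -/
noncomputable def tt : G := emb φ negCo0

theorem tt_sq : tt φ * tt φ = 1 := by rw [tt, ← map_mul, negCo0_mul_self, map_one]

theorem tt_ne : tt φ ≠ 1 := fun e => neg_ne_one (emb_inj φ (e.trans (map_one _).symm))

theorem tt_cent : tt φ ∈ Subgroup.centralizer (A : Set G) := Subgroup.mem_centralizer_iff.2 fun g hg => by
  rw [← emb_surj φ hg, tt, ← map_mul, ← map_mul, negCo0_commute]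

theorem emb_comm (a : Co0) (c : Subgroup.centralizer (A : Set G)) : Commute (emb φ a) (c : G) :=
  Subgroup.mem_centralizer_iff.1 c.2 _ (emb_mem φ a)

/-- The product map onto the centraliser of the central involution. -/
noncomputable def mu : Co0 × Subgroup.centralizer (A : Set G) →* G :=
  (emb φ).noncommCoprod (Subgroup.centralizer (A : Set G)).subtype fun a c => emb_comm φ a c

theorem mu_apply (p : Co0 × Subgroup.centralizer (A : Set G)) : mu φ p = emb φ p.1 * (p.2 : G) := rfl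

theorem mu_comm_tt (p : Co0 × Subgroup.centralizer (A : Set G)) : Commute (mu φ p) (tt φ) := by
  rw [mu_apply]
  refine Commute.mul_left ?_ (emb_comm φ negCo0 p.2).symm
  show _ * _ = _ * _
  rw [tt, ← map_mul, ← map_mul, negCo0_commute]

theorem emb_in_cent {a : Co0} (h : emb φ a ∈ Subgroup.centralizer (A : Set G)) : a = 1 ∨ a = negCo0 :=
  mem_center_iff.1 <| Subgroup.mem_center_iff.2 fun y => emb_inj φ <| by
    rw [map_mul, map_mul]; exact Subgroup.mem_centralizer_iff.1 h _ (emb_mem φ y)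

/-- The decomposition is unique up to the central involution. -/
theorem mu_inj {a a' : Co0} {c c' : Subgroup.centralizer (A : Set G)} (h : mu φ (a, c) = mu φ (a', c')) :
    a' = a ∨ a' = a * negCo0 := by
  rw [mu_apply, mu_apply] at h
  have e : emb φ (a⁻¹ * a') = ((c * c'⁻¹ : Subgroup.centralizer (A : Set G)) : G) := by
    rw [map_mul, map_inv, Subgroup.coe_mul, Subgroup.coe_inv, inv_mul_eq_iff_eq_mul, ← mul_assoc, h,
      mul_inv_cancel_right]
  rcases emb_in_cent φ (e ▸ (c * c'⁻¹).2) with r | r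
  · exact Or.inl (inv_mul_eq_one.1 r).symm
  · exact Or.inr (inv_mul_eq_iff_eq_mul.1 r)

section
variable [Finite G] (hA : IsStandardSubgroup A)
include hA

theorem exists_decomp {g : G} (hg : Commute g (tt φ)) : ∃ p, mu φ p = g := by
  have hN := mem_normalizer_of_comm hA (tt_cent φ)
    (orderOf_eq_prime (by rw [pow_two, tt_sq]) (tt_ne φ)) hg
  have hperf : commutator Co0 = ⊤ := by
    have h : commutator A = ⊤ := hA.1.1.commutator_eq_top
    have := congrArg (Subgroup.map φ.toMonoidHom) h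
    rwa [Subgroup.map_top_of_surjective _ φ.surjective, commutator_def, Subgroup.map_commutator,
      Subgroup.map_top_of_surjective _ φ.surjective, ← commutator_def] at this
  obtain ⟨k, hk⟩ := inner hperf ((φ.symm.trans (A.normalizerMonoidHom ⟨g, hN⟩)).trans φ)
  have hk' : ∀ a, g * emb φ a * g⁻¹ = emb φ (k * a * k⁻¹) := fun a => by
    rw [← hk a]
    show _ = ((φ.symm (φ _) : A) : G)
    rw [φ.symm_apply_apply]
    rfl
  have hc : (emb φ k)⁻¹ * g ∈ Subgroup.centralizer (A : Set G) := by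
    refine Subgroup.mem_centralizer_iff.2 fun x hx => ?_
    rw [← emb_surj φ hx]
    have e := hk' (φ ⟨x, hx⟩)
    simp only [map_mul, map_inv] at e
    rw [mul_inv_eq_iff_eq_mul] at e
    rw [mul_assoc _ g, e]; group
  exact ⟨(k, ⟨_, hc⟩), by rw [mu_apply]; exact mul_inv_cancel_left _ _⟩

end

/-! ### The centraliser of `A` -/

/-- The central involution in the centraliser. -/
noncomputable def tC : Subgroup.centralizer (A : Set G) := ⟨tt φ, tt_cent φ⟩

theorem tC_comm (c : Subgroup.centralizer (A : Set G)) : Commute c (tC φ) :=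
  Subtype.ext (emb_comm φ negCo0 c).symm.eq

theorem cent_sq {a : Co0} {c : Subgroup.centralizer (A : Set G)} (h : mu φ (a, c) * mu φ (a, c) = 1) :
    (a * a = 1 ∧ c * c = 1) ∨ (a * a = negCo0 ∧ c * c = tC φ) := by
  rw [← map_mul, Prod.mk_mul_mk] at h
  have h' : mu φ (a * a, c * c) = mu φ (1, 1) := h.trans (map_one (mu φ)).symm
  have h2 := h
  rw [mu_apply] at h2
  rcases mu_inj φ h' with e | e
  · refine Or.inl ⟨e.symm, Subtype.ext ?_⟩
    rwa [← e, map_one, one_mul] at h2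
  · have e' : a * a = negCo0 := by
      have := congrArg (· * negCo0) e
      simpa only [mul_assoc, negCo0_mul_self, mul_one, one_mul] using this.symm
    refine Or.inr ⟨e', Subtype.ext ?_⟩
    show _ = tt φ
    dsimp only at h2
    rw [e'] at h2
    change tt φ * _ = 1 at h2
    rw [← inv_eq_of_mul_eq_one_right h2]
    exact inv_eq_of_mul_eq_one_right (tt_sq φ)

variable [Finite G]
variable (hR : ∀ R : Sylow 2 (Subgroup.centralizer (A : Set G)),
  IsCyclic (R : Subgroup (Subgroup.centralizer (A : Set G))))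
include hR

theorem invol_cent {c : Subgroup.centralizer (A : Set G)} (hc : c * c = 1) : c = 1 ∨ c = tC φ := by
  classical
  have : Fact (Nat.Prime 2) := ⟨Nat.prime_two⟩
  have hp : ∀ x : Subgroup.centralizer (A : Set G), x * x = 1 → IsPGroup 2 (Subgroup.zpowers x) := by
    intro x hx
    rintro ⟨_, i, rfl⟩
    refine ⟨1, Subtype.ext ?_⟩
    show (x ^ i) ^ (2 ^ 1) = 1
    rw [pow_one, pow_two, ← (Commute.refl x).mul_zpow, hx, one_zpow]
  have ht : tC φ * tC φ = 1 := Subtype.ext (tt_sq φ)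
  have : (Subgroup.zpowers (tC φ)).Normal := ⟨fun n hn g => by
    obtain ⟨i, rfl⟩ := hn
    rw [((tC_comm φ g).zpow_right i).eq, mul_inv_cancel_right]
    exact Subgroup.zpow_mem_zpowers _ _⟩
  obtain ⟨R, hle⟩ := ((hp c hc).to_sup_of_normal_right (hp _ ht)).exists_le_sylow
  have := hR R
  have : Fintype (R : Subgroup (Subgroup.centralizer (A : Set G))) := Fintype.ofFinite _
  by_contra hne
  rw [not_or] at hne
  have h := IsCyclic.card_pow_eq_one_le (α := (R : Subgroup (Subgroup.centralizer (A : Set G))))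
    (n := 2) (by norm_num)
  let a : (R : Subgroup (Subgroup.centralizer (A : Set G))) :=
    ⟨c, hle (Subgroup.mem_sup_left (Subgroup.mem_zpowers c))⟩
  let b : (R : Subgroup (Subgroup.centralizer (A : Set G))) :=
    ⟨tC φ, hle (Subgroup.mem_sup_right (Subgroup.mem_zpowers _))⟩
  have hsub : ({1, a, b} : Finset _) ⊆ Finset.univ.filter (fun x => x ^ 2 = 1) := by
    intro x hx
    simp only [Finset.mem_insert, Finset.mem_singleton] at hx
    refine Finset.mem_filter.2 ⟨Finset.mem_univ _, ?_⟩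
    rw [pow_two]
    rcases hx with rfl | rfl | rfl
    · exact one_mul 1
    · exact Subtype.ext hc
    · exact Subtype.ext ht
  have h3 : ({1, a, b} : Finset _).card = 3 := by
    rw [Finset.card_eq_three]
    refine ⟨1, a, b, fun e => hne.1 (congrArg Subtype.val e).symm, fun e => ?_,
      fun e => hne.2 (congrArg Subtype.val e), rfl⟩
    exact tt_ne φ (congrArg (fun z : (R : Subgroup (Subgroup.centralizer (A : Set G))) =>
      ((z : Subgroup.centralizer (A : Set G)) : G)) e).symm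
  have := (Finset.card_le_card hsub).trans h
  omega

theorem two_elt {c : Subgroup.centralizer (A : Set G)}
    (hno : ∀ d : Subgroup.centralizer (A : Set G), d * d ≠ tC φ) :
    ∀ k : ℕ, c ^ (2 ^ k) = 1 → c = 1 ∨ c = tC φ := by
  intro k
  induction k generalizing c with
  | zero => intro h; exact Or.inl (by simpa using h)
  | succ k ih =>
    intro h
    rw [pow_succ', pow_mul, pow_two] at h
    rcases ih h with e | e
    · exact invol_cent φ hR e
    · exact absurd e (hno c)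

/-! ### The Sylow subgroup -/

variable (hA : IsStandardSubgroup A)
include hA

theorem mem_range_iff {g : G} : g ∈ (mu φ).range ↔ Commute g (tt φ) :=
  ⟨fun ⟨p, hp⟩ => hp ▸ mu_comm_tt φ p, fun h => exists_decomp φ hA h⟩

/-- A Sylow subgroup of `C(t)`, given by a pair of Sylow subgroups, is conjugate along any fusion. -/
theorem move {T : Subgroup Co0} (hT : IsPGroup 2 T) (hTi : ¬ 2 ∣ T.index)
    (R : Sylow 2 (Subgroup.centralizer (A : Set G))) {x : G} (hx : IsConj (tt φ) x)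
    (hxP : ∀ p ∈ (T.prod (R : Subgroup _)).map (mu φ), Commute p x) :
    ∃ g, g * tt φ * g⁻¹ = x ∧
      ((T.prod (R : Subgroup _)).map (mu φ)).map (MulAut.conj g).toMonoidHom =
        (T.prod (R : Subgroup _)).map (mu φ) := by
  have : Fact (Nat.Prime 2) := ⟨Nat.prime_two⟩
  set H := T.prod (R : Subgroup (Subgroup.centralizer (A : Set G))) with hH
  have hHp : IsPGroup 2 H := by
    intro y
    obtain ⟨i, hi⟩ := hT ⟨_, y.2.1⟩
    obtain ⟨j, hj⟩ := R.2 ⟨_, y.2.2⟩
    have hi' : (y.1.1) ^ (2 ^ i) = 1 := congrArg Subtype.val hi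
    have hj' : (y.1.2) ^ (2 ^ j) = 1 := congrArg Subtype.val hj
    refine ⟨i + j, Subtype.ext (Prod.ext ?_ ?_)⟩
    · show y.1.1 ^ _ = 1
      rw [pow_add, pow_mul, hi', one_pow]
    · show y.1.2 ^ _ = 1
      rw [pow_add, mul_comm, pow_mul, hj', one_pow]
  have hi : ¬ 2 ∣ (H.map (mu φ).rangeRestrict).index := fun h => by
    have h' := h.trans (Subgroup.index_map_dvd (H := H) (MonoidHom.rangeRestrict_surjective (mu φ)))
    rw [hH, Subgroup.index_prod] at h'
    rcases Nat.prime_two.dvd_mul.1 h' with r | r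
    · exact hTi r
    · exact R.not_dvd_index r
  let P : Sylow 2 (mu φ).range := (hHp.map _).toSylow hi
  obtain ⟨h, hh⟩ := isConj_iff.1 hx
  have hmem : ∀ p ∈ H.map (mu φ), h⁻¹ * p * h ∈ (mu φ).range := fun p hp => by
    refine (mem_range_iff φ hR hA).2 ?_
    have e := (hxP p hp).eq
    rw [← hh] at e
    show _ = _
    calc h⁻¹ * p * h * tt φ = h⁻¹ * (p * (h * tt φ * h⁻¹)) * h := by group
      _ = h⁻¹ * ((h * tt φ * h⁻¹) * p) * h := by rw [e]
      _ = tt φ * (h⁻¹ * p * h) := by group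
  let K : Subgroup (mu φ).range :=
    ((H.map (mu φ)).map (MulAut.conj h⁻¹).toMonoidHom).subgroupOf (mu φ).range
  have hK : IsPGroup 2 K := IsPGroup.comap_of_injective ((hHp.map _).map _) _ (mu φ).range.subtype_injective
  obtain ⟨S, hS⟩ := hK.exists_le_sylow
  obtain ⟨k, hk⟩ := MulAction.exists_smul_eq (mu φ).range P S
  have hk0 : Commute (k : G) (tt φ) := (mem_range_iff φ hR hA).1 k.2
  refine ⟨h * k, ?_, ?_⟩
  · rw [mul_inv_rev, ← mul_assoc, mul_assoc h (k : G), hk0.eq, ← mul_assoc, mul_inv_cancel_right, hh]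
  have hsub : (H.map (mu φ)).map (MulAut.conj (h * (k : G))⁻¹).toMonoidHom ≤ H.map (mu φ) := by
    rintro _ ⟨p, hp, rfl⟩
    have hmS : (⟨h⁻¹ * p * h, hmem p hp⟩ : (mu φ).range) ∈ (S : Subgroup _) :=
      hS ⟨p, hp, by show h⁻¹ * p * h⁻¹⁻¹ = _; rw [inv_inv]; rfl⟩
    rw [← hk] at hmS
    change _ ∈ MulAut.conj k • (P : Subgroup (mu φ).range) at hmS
    rw [Subgroup.mem_pointwise_smul_iff_inv_smul_mem] at hmS
    obtain ⟨q, hq, e⟩ := hmS
    refine ⟨q, hq, ?_⟩
    have e' : mu φ q = (k : G)⁻¹ * (h⁻¹ * p * h) * k := by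
      have := congrArg Subtype.val e
      simpa using this
    rw [e']
    show _ = (h * (k : G))⁻¹ * p * (h * (k : G))⁻¹⁻¹
    group
  have heq := Subgroup.eq_of_le_of_card_ge hsub
    (Subgroup.card_map_of_injective (MulAut.conj (h * (k : G))⁻¹).injective).ge
  conv_lhs => rw [← heq]
  rw [Subgroup.map_map]
  refine (congrArg (fun f => Subgroup.map f (H.map (mu φ))) ?_).trans (Subgroup.map_id _)
  refine MonoidHom.ext fun y => ?_
  show (h * (k : G)) * ((h * (k : G))⁻¹ * y * (h * (k : G))⁻¹⁻¹) * (h * (k : G))⁻¹ = y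
  group

/-! ### The fusion of the central involution -/

omit hR hA in
theorem tt0_ne {a : Co0} (h : a ≠ negCo0) : emb φ a ≠ tt φ := fun e => h (emb_inj φ e)

omit hR hA in
theorem conj_emb {a b : Co0} (h : IsConj a b) : IsConj (emb φ a) (emb φ b) := (emb φ).map_isConj h

/-- A central element of the Sylow subgroup. -/
theorem central_form {T : Subgroup Co0} (hk : rho.ker.map Cc.subtype ≤ T) (hTC : T ≤ Cc)
    {R : Sylow 2 (Subgroup.centralizer (A : Set G))} {z : G}
    (hz : z ∈ (T.prod (R : Subgroup _)).map (mu φ))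
    (hzc : ∀ p ∈ (T.prod (R : Subgroup _)).map (mu φ), Commute p z) :
    ∃ a c, (a = 1 ∨ a = negCo0 ∨ a = t0 ∨ a = t0 * negCo0) ∧ c ∈ (R : Subgroup _) ∧ mu φ (a, c) = z := by
  obtain ⟨⟨a, c⟩, ⟨ha, hc⟩, rfl⟩ := hz
  refine ⟨a, c, cent_ker (a := ⟨a, hTC ha⟩) fun q hq => Subtype.ext ?_, hc, rfl⟩
  have hqT : (q : Co0) ∈ T := hk ⟨q, hq, rfl⟩
  have e := (hzc _ ⟨((q : Co0), 1), ⟨hqT, one_mem _⟩, rfl⟩).eq
  rw [← map_mul, ← map_mul, Prod.mk_mul_mk, Prod.mk_mul_mk, one_mul, mul_one, mu_apply, mu_apply] at e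
  exact emb_inj φ (mul_right_cancel e).symm

theorem comm_four {T : Subgroup Co0} (hTC : T ≤ Cc) {R : Sylow 2 (Subgroup.centralizer (A : Set G))}
    {a : Co0} (ha : a = t0 ∨ a = t0 * negCo0) :
    ∀ p ∈ (T.prod (R : Subgroup _)).map (mu φ), Commute p (emb φ a) := by
  rintro _ ⟨⟨b, c⟩, ⟨hb, -⟩, rfl⟩
  rw [mu_apply]
  refine Commute.mul_left ?_ (emb_comm φ a c).symm
  have e : b * t0 = t0 * b := E8Cent.mem_Cc.1 (hTC hb)
  show _ * _ = _ * _
  rw [← map_mul, ← map_mul]
  rcases ha with rfl | rfl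
  · rw [e]
  · rw [← mul_assoc, e, mul_assoc, mul_assoc, negCo0_commute b]

/-- An element of square `t` in `C(A)` forbids fusion to the sign changes of octads and their complements. -/
theorem not_four_of_root {c0 : Subgroup.centralizer (A : Set G)} (hc0 : c0 * c0 = tC φ) {a : Co0}
    (ha : a = t0 ∨ a = t0 * negCo0) : ¬ IsConj (tt φ) (emb φ a) := by
  intro hS
  have : Fact (Nat.Prime 2) := ⟨Nat.prime_two⟩
  obtain ⟨T, hT, hTi, hk, hTC⟩ := exists_sylow
  have hp : IsPGroup 2 (Subgroup.zpowers c0) := by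
    rintro ⟨_, i, rfl⟩
    refine ⟨2, Subtype.ext ?_⟩
    show (c0 ^ i) ^ (2 ^ 2) = 1
    have h4 : c0 ^ (4 : ℕ) = 1 := by
      rw [show (4 : ℕ) = 2 * 2 by rfl, pow_mul, pow_two c0, hc0, pow_two]
      exact Subtype.ext (tt_sq φ)
    rw [← zpow_natCast, zpow_comm, zpow_natCast]
    norm_num [h4]
  obtain ⟨R, hle⟩ := hp.exists_le_sylow
  have := hR R
  let _ : CommGroup (R : Subgroup (Subgroup.centralizer (A : Set G))) := IsCyclic.commGroup
  obtain ⟨g, hg, hmap⟩ := move φ hR hA hT hTi R hS (comm_four φ hR hA hTC ha)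
  have hc0P : mu φ (1, c0) ∈ (T.prod (R : Subgroup _)).map (mu φ) :=
    ⟨_, ⟨one_mem _, hle (Subgroup.mem_zpowers c0)⟩, rfl⟩
  have hcen : ∀ p ∈ (T.prod (R : Subgroup _)).map (mu φ), Commute p (mu φ (1, c0)) := by
    rintro _ ⟨⟨b, c⟩, ⟨-, hc⟩, rfl⟩
    show _ * _ = _ * _
    rw [← map_mul, ← map_mul, Prod.mk_mul_mk, Prod.mk_mul_mk, one_mul, mul_one]
    exact congrArg (fun d => mu φ (b, d)) (congrArg Subtype.val
      (mul_comm (⟨c, hc⟩ : (R : Subgroup (Subgroup.centralizer (A : Set G))))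
        ⟨c0, hle (Subgroup.mem_zpowers c0)⟩))
  set z := g * mu φ (1, c0) * g⁻¹ with hzdef
  have hz : z ∈ (T.prod (R : Subgroup _)).map (mu φ) := hmap ▸ ⟨_, hc0P, rfl⟩
  have hzc : ∀ p ∈ (T.prod (R : Subgroup _)).map (mu φ), Commute p z := by
    intro p hp
    rw [← hmap] at hp
    obtain ⟨q, hq, rfl⟩ := hp
    exact Commute.map (hcen q hq) (MulAut.conj g).toMonoidHom
  obtain ⟨a', c, ha', -, he⟩ := central_form φ hR hA hk hTC hz hzc
  have hz2 : z * z = emb φ a := by
    rw [hzdef, show g * mu φ (1, c0) * g⁻¹ * (g * mu φ (1, c0) * g⁻¹) =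
      g * (mu φ (1, c0) * mu φ (1, c0)) * g⁻¹ by group, ← map_mul, Prod.mk_mul_mk, one_mul, hc0, ← hg,
      mu_apply, map_one, one_mul]
    rfl
  have ha2 : a' * a' = 1 := by
    rcases ha' with rfl | rfl | rfl | rfl
    · exact one_mul 1
    · exact negCo0_mul_self
    · exact E8Cent.t0_sq
    · rw [mul_assoc, ← mul_assoc negCo0, negCo0_commute t0, mul_assoc t0 negCo0, negCo0_mul_self, mul_one,
        E8Cent.t0_sq]
  rw [← he, ← map_mul, Prod.mk_mul_mk, ha2, mu_apply, map_one, one_mul] at hz2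
  rcases emb_in_cent φ (hz2 ▸ (c * c).2) with r | r
  · rw [r, map_one] at hg
    exact tt_ne φ (conj_eq_one_iff.1 hg)
  · rcases ha with rfl | rfl
    · exact t0_ne_neg r
    · exact E8Cent.t0_ne_one (mul_eq_right.1 r)

/-- An element centralising `t` and `t0` normalises the kernel. -/
theorem conj_ker {m : G} (h1 : Commute m (tt φ)) (h2 : Commute m (emb φ t0)) {q : Cc} (hq : q ∈ rho.ker) :
    ∃ q' ∈ rho.ker, emb φ (q' : Co0) = m * emb φ (q : Co0) * m⁻¹ := by
  obtain ⟨⟨b, d⟩, rfl⟩ := exists_decomp φ hA h1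
  have hb : b ∈ Cc := by
    refine E8Cent.mem_Cc.2 (emb_inj φ ?_)
    rw [map_mul, map_mul]
    have e := h2.eq
    rw [mu_apply, mul_assoc, ← (emb_comm φ t0 d).eq, ← mul_assoc, ← mul_assoc] at e
    exact mul_right_cancel e
  have hq' : (⟨b, hb⟩ : Cc) * q * (⟨b, hb⟩ : Cc)⁻¹ ∈ rho.ker :=
    (MonoidHom.normal_ker rho).conj_mem q hq (⟨b, hb⟩ : Cc)
  refine ⟨_, hq', ?_⟩
  rw [Subgroup.coe_mul, Subgroup.coe_mul, Subgroup.coe_inv, mu_apply, map_mul, map_mul, map_inv]
  have e := emb_comm φ (q : Co0) d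
  rw [mul_assoc (emb φ b) (d : G), ← e.eq]
  group

/-- The squares in a 2-subgroup centralising `t` and `t0` and normalised by their centraliser. -/
theorem sigma (hno : ∀ d : Subgroup.centralizer (A : Set G), d * d ≠ tC φ) {K : Subgroup G}
    (hKp : IsPGroup 2 K) (hKn : ∀ a : Co0, a ∈ Cc → ∀ k ∈ K, emb φ a * k * (emb φ a)⁻¹ ∈ K) {k : G}
    (hk : k ∈ K) (c1 : Commute k (tt φ)) (c2 : Commute k (emb φ t0)) :
    k * k = 1 ∨ k * k = emb φ t0 := by
  let K0 : Subgroup Cc := K.comap ((emb φ).comp Cc.subtype)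
  have : K0.Normal := ⟨fun x hx a => by
    show emb φ ((a * x * a⁻¹ : Cc) : Co0) ∈ K
    rw [Subgroup.coe_mul, Subgroup.coe_mul, Subgroup.coe_inv, map_mul, map_mul, map_inv]
    exact hKn _ a.2 _ hx⟩
  have hK0 : IsPGroup 2 K0 := hKp.comap_of_injective _ ((emb_inj φ).comp Cc.subtype_injective)
  obtain ⟨⟨b, d⟩, hbd⟩ := exists_decomp φ hA c1
  obtain ⟨i, hi⟩ := hKp ⟨k, hk⟩
  have e : k ^ (2 ^ i) = 1 := congrArg Subtype.val hi
  rw [← hbd, ← map_pow, Prod.pow_mk] at e
  have e' : mu φ (b ^ (2 ^ i), d ^ (2 ^ i)) = mu φ (1, 1) := e.trans (map_one (mu φ)).symm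
  have hd2 : d ^ (2 ^ (i + 1)) = 1 := by
    rw [mu_apply] at e
    dsimp only at e
    rcases mu_inj φ e' with r | r
    · have h1 : d ^ (2 ^ i) = 1 := by
        refine Subtype.ext ?_
        rwa [← r, map_one, one_mul] at e
      rw [pow_succ, pow_mul, h1, one_pow]
    · have h1 : b ^ (2 ^ i) = negCo0 := by
        have := congrArg (· * negCo0) r
        simpa only [mul_assoc, negCo0_mul_self, mul_one, one_mul] using this.symm
      have h2 : d ^ (2 ^ i) = tC φ := by
        refine Subtype.ext ?_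
        rw [h1] at e
        change tt φ * _ = 1 at e
        show _ = tt φ
        rw [← inv_eq_of_mul_eq_one_right e]
        exact inv_eq_of_mul_eq_one_right (tt_sq φ)
      rw [pow_succ, pow_mul, h2, pow_two]
      exact Subtype.ext (tt_sq φ)
  obtain ⟨a, rfl⟩ : ∃ a, emb φ a = k := by
    rcases two_elt φ hR hno (i + 1) hd2 with rfl | rfl
    · exact ⟨b, by rw [← hbd, mu_apply, Subgroup.coe_one, mul_one]⟩
    · exact ⟨b * negCo0, by rw [← hbd, mu_apply, map_mul]; rfl⟩
  have haC : a ∈ Cc := E8Cent.mem_Cc.2 (emb_inj φ (by rw [map_mul, map_mul]; exact c2.eq))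
  rcases core_sq K0 hK0 (a := ⟨a, haC⟩) hk with r | r
  · exact Or.inl (by rw [← map_mul, show a * a = 1 from r, map_one])
  · exact Or.inr (by rw [← map_mul, show a * a = t0 from r])

/-- Without such an element the central involution is not fused to `t0`. -/
theorem not_t0_of_no_root (hno : ∀ d : Subgroup.centralizer (A : Set G), d * d ≠ tC φ) :
    ¬ IsConj (tt φ) (emb φ t0) := by
  intro hS
  have : Fact (Nat.Prime 2) := ⟨Nat.prime_two⟩
  obtain ⟨T, hT, hTi, hk, hTC⟩ := exists_sylow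
  obtain ⟨R⟩ : Nonempty (Sylow 2 (Subgroup.centralizer (A : Set G))) := inferInstance
  obtain ⟨g, hg, hmap⟩ := move φ hR hA hT hTi R hS (comm_four φ hR hA hTC (Or.inl rfl))
  have hx0 : emb φ t0 ∈ (T.prod (R : Subgroup _)).map (mu φ) := by
    refine ⟨(t0, 1), ⟨hk ⟨⟨t0, E8Cent.mem_Cc.2 rfl⟩, E8Cent.t0c_mem, rfl⟩, one_mem _⟩, ?_⟩
    rw [mu_apply, Subgroup.coe_one, mul_one]
  set y := g * emb φ t0 * g⁻¹ with hydef
  have hy : y ∈ (T.prod (R : Subgroup _)).map (mu φ) := hmap ▸ ⟨_, hx0, rfl⟩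
  have hyc : ∀ p ∈ (T.prod (R : Subgroup _)).map (mu φ), Commute p y := by
    intro p hp
    rw [← hmap] at hp
    obtain ⟨q, hq, rfl⟩ := hp
    exact Commute.map (comm_four φ hR hA hTC (Or.inl rfl) q hq) (MulAut.conj g).toMonoidHom
  obtain ⟨a', c, ha', hc, he⟩ := central_form φ hR hA hk hTC hy hyc
  have hy1 : y ≠ 1 := fun e => E8Cent.t0_ne_one (emb_inj φ ((conj_eq_one_iff.1 e).trans (map_one _).symm))
  have hyx : y ≠ emb φ t0 := fun e =>
    tt0_ne φ t0_ne_neg ((mul_left_cancel (mul_right_cancel (e.trans hg.symm))) : emb φ t0 = tt φ)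
  obtain ⟨j, hj⟩ := R.2 ⟨c, hc⟩
  have hy' : y = tt φ ∨ y = tt φ * emb φ t0 := by
    have hex : ∀ b : Co0, y = emb φ b → b = 1 ∨ b = negCo0 ∨ b = t0 ∨ b = t0 * negCo0 →
        y = tt φ ∨ y = tt φ * emb φ t0 := by
      rintro b e (rfl | rfl | rfl | rfl)
      · exact absurd (e.trans (map_one _)) hy1
      · exact Or.inl e
      · exact absurd e hyx
      · exact Or.inr (e.trans (by rw [tt, ← map_mul, negCo0_commute]))
    rcases two_elt φ hR hno j (congrArg Subtype.val hj) with rfl | rfl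
    · exact hex a' (by rw [← he, mu_apply, Subgroup.coe_one, mul_one]) ha'
    · refine hex (a' * negCo0) (by rw [← he, mu_apply, map_mul]; rfl) ?_
      rcases ha' with rfl | rfl | rfl | rfl
      · exact Or.inr (Or.inl (one_mul _))
      · exact Or.inl negCo0_mul_self
      · exact Or.inr (Or.inr (Or.inr rfl))
      · exact Or.inr (Or.inr (Or.inl (by rw [mul_assoc, negCo0_mul_self, mul_one])))
  let N : Subgroup G := Subgroup.centralizer {tt φ} ⊓ Subgroup.centralizer {emb φ t0}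
  have memN : ∀ {n : G}, n ∈ N ↔ Commute n (tt φ) ∧ Commute n (emb φ t0) := fun {n} => by
    simp only [N, Subgroup.mem_inf, Subgroup.mem_centralizer_singleton_iff]; rfl
  have hNle : N.map (MulAut.conj g).toMonoidHom ≤ N := by
    rintro _ ⟨n, hn, rfl⟩
    obtain ⟨h1, h2⟩ := memN.1 hn
    have c1 : Commute (g * n * g⁻¹) (emb φ t0) := hg ▸ h1.map (MulAut.conj g).toMonoidHom
    have c2 : Commute (g * n * g⁻¹) y := h2.map (MulAut.conj g).toMonoidHom
    refine memN.2 ⟨?_, c1⟩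
    rcases hy' with e | e
    · exact e ▸ c2
    · have h := c2.mul_right c1.inv_right
      rwa [e, mul_inv_cancel_right] at h
  have hNeq := Subgroup.eq_of_le_of_card_ge hNle
    (Subgroup.card_map_of_injective (MulAut.conj g).injective).ge
  let ι : Cc →* G := (emb φ).comp Cc.subtype
  have hι : ∀ a : Co0, a ∈ Cc → emb φ a ∈ N := fun a ha => by
    refine memN.2 ⟨?_, ?_⟩
    · show _ * _ = _ * _
      rw [tt, ← map_mul, ← map_mul, negCo0_commute]
    · show _ * _ = _ * _
      rw [← map_mul, ← map_mul, E8Cent.mem_Cc.1 ha]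
  let K : Subgroup G := (rho.ker.map ι).map (MulAut.conj g).toMonoidHom
  have hKp : IsPGroup 2 K :=
    ((IsPGroup.of_card (n := 9) (by rw [E8Cent.card_ker]; norm_num)).map ι).map _
  have hKn : ∀ a : Co0, a ∈ Cc → ∀ k ∈ K, emb φ a * k * (emb φ a)⁻¹ ∈ K := by
    intro a ha k hk'
    have hn := hι a ha
    rw [← hNeq] at hn
    obtain ⟨m, hm, hmn⟩ := Subgroup.mem_map.1 hn
    obtain ⟨w, hw, rfl⟩ := Subgroup.mem_map.1 hk'
    obtain ⟨q, hq, rfl⟩ := Subgroup.mem_map.1 hw
    obtain ⟨h1, h2⟩ := memN.1 hm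
    obtain ⟨q', hq', e⟩ := conj_ker φ hR hA h1 h2 hq
    refine Subgroup.mem_map.2 ⟨ι q', Subgroup.mem_map_of_mem ι hq', ?_⟩
    rw [← hmn, ← map_inv, ← map_mul, ← map_mul]
    exact congrArg _ e
  obtain ⟨q, hq, hq2⟩ := exists_root
  have hkK : g * emb φ q * g⁻¹ ∈ K := Subgroup.mem_map_of_mem _ (Subgroup.mem_map_of_mem ι hq)
  obtain ⟨c1, c2⟩ := memN.1 (hNle (Subgroup.mem_map_of_mem _ (hι _ q.2)))
  have hsq : g * emb φ q * g⁻¹ * (g * emb φ q * g⁻¹) = y := by
    rw [hydef, ← hq2, map_mul]; group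
  rcases sigma φ hR hA hno hKp hKn hkK c1 c2 with r | r <;> rw [hsq] at r
  · exact hy1 r
  · exact hyx r

/-! ### Isolation -/

/-- Without fusion to the octad classes, multiplication by `t` preserves the fused elements. -/
theorem fused_mul (h0 : ¬ IsConj (tt φ) (emb φ t0)) (he : ¬ IsConj (tt φ) (emb φ e0)) {y : G}
    (hS : IsConj (tt φ) y) (hy : Commute y (tt φ)) (hne : y ≠ tt φ) : IsConj (tt φ) (tt φ * y) := by
  obtain ⟨⟨a, c⟩, rfl⟩ := exists_decomp φ hA hy
  obtain ⟨g, hg⟩ := isConj_iff.1 hS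
  have hsq : mu φ (a, c) * mu φ (a, c) = 1 := by
    rw [← hg, show g * tt φ * g⁻¹ * (g * tt φ * g⁻¹) = g * (tt φ * tt φ) * g⁻¹ by group, tt_sq]; group
  have hy1 : mu φ (a, c) ≠ 1 := fun e => tt_ne φ (conj_eq_one_iff.1 (hg.trans e))
  rcases cent_sq φ hsq with ⟨ha, hc⟩ | ⟨ha, -⟩
  · obtain ⟨a', he'⟩ : ∃ a', emb φ a' = mu φ (a, c) := by
      rcases invol_cent φ hR hc with rfl | rfl
      · exact ⟨a, by rw [mu_apply, Subgroup.coe_one, mul_one]⟩
      · exact ⟨a * negCo0, by rw [mu_apply, map_mul]; rfl⟩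
    rw [← he'] at hS hsq hy1 hne ⊢
    rw [← map_mul, ← map_one (emb φ)] at hsq
    have h1 : a' ≠ 1 := fun e => hy1 (by rw [e, map_one])
    rcases classes_one (emb_inj φ hsq) h1 (fun e => hne (congrArg _ e)) with r | r | r
    · exact absurd (hS.trans (conj_emb φ r).symm) h0
    · exact absurd (hS.trans (conj_emb φ r).symm) he
    · have e : tt φ * emb φ a' = emb φ (a' * negCo0) := by rw [tt, ← map_mul, negCo0_commute]
      rw [e]
      exact hS.trans (conj_emb φ ((r.symm.trans u0_neg).trans (conj_neg r)))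
  · have e : tt φ * mu φ (a, c) = mu φ (a * negCo0, c) := by
      rw [mu_apply, mu_apply, ← mul_assoc, tt, ← map_mul, negCo0_commute]
    have h2 : a * negCo0 * (a * negCo0) = negCo0 := by
      rw [mul_assoc, ← mul_assoc negCo0, negCo0_commute a, mul_assoc a negCo0, negCo0_mul_self, mul_one, ha]
    obtain ⟨k, hk⟩ := isConj_iff.1 ((classes_neg ha).symm.trans (classes_neg h2))
    refine hS.trans (isConj_iff.2 ⟨mu φ (k, 1), ?_⟩)
    rw [e, ← map_inv, ← map_mul, ← map_mul, Prod.inv_mk, Prod.mk_mul_mk, Prod.mk_mul_mk]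
    simp [hk]

omit hR hA in
theorem view {x y : G} (hx : IsConj (tt φ) x) (hxy : Commute x y) :
    ∃ h, h * tt φ * h⁻¹ = x ∧ Commute (h⁻¹ * y * h) (tt φ) := by
  obtain ⟨h, hh⟩ := isConj_iff.1 hx
  refine ⟨h, hh, ?_⟩
  have := hxy.map (MulAut.conj h⁻¹).toMonoidHom
  rw [← hh] at this
  convert this.symm using 1 <;> simp [mul_assoc]

/-- Commuting fused elements have fused product. -/
theorem fused_prod (h0 : ¬ IsConj (tt φ) (emb φ t0)) (he : ¬ IsConj (tt φ) (emb φ e0)) {x y : G}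
    (hx : IsConj (tt φ) x) (hy : IsConj (tt φ) y) (hxy : Commute x y) (hne : x ≠ y) :
    IsConj (tt φ) (x * y) := by
  obtain ⟨h, hh, hc⟩ := view φ hx hxy
  have hy' : IsConj (tt φ) (h⁻¹ * y * h) := hy.trans (isConj_iff.2 ⟨h⁻¹, by group⟩)
  have hne' : h⁻¹ * y * h ≠ tt φ := fun e => hne (by rw [← hh, ← e]; group)
  refine (fused_mul φ hR hA h0 he hy' hc hne').trans (isConj_iff.2 ⟨h, ?_⟩)
  rw [← hh]; group

/-- In the case without a root, a fused octad sign excludes fused dodecads, and is then impossible. -/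
theorem not_e0_of_no_root (hno : ∀ d : Subgroup.centralizer (A : Set G), d * d ≠ tC φ) :
    ¬ IsConj (tt φ) (emb φ e0) := by
  intro he
  have h0 := not_t0_of_no_root φ hR hA hno
  have key : ∀ {x y : Co0}, IsConj (tt φ) (emb φ x) → Commute x y → y * y = 1 → y ≠ 1 → x ≠ y →
      ∃ a : Co0, (IsConj t0 a ∨ IsConj e0 a ∨ IsConj u0 a) ∧
        IsConj (emb φ y) (emb φ a) ∧ IsConj (emb φ (x * y)) (emb φ (a * negCo0)) := by
    intro x y hx hxy hy2 hy1 hne
    obtain ⟨h, hh, hc⟩ := view φ hx (hxy.map (emb φ))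
    obtain ⟨⟨b, c⟩, hbc⟩ := exists_decomp φ hA hc
    have hsq : mu φ (b, c) * mu φ (b, c) = 1 := by
      rw [hbc, show h⁻¹ * emb φ y * h * (h⁻¹ * emb φ y * h) = h⁻¹ * (emb φ y * emb φ y) * h by group,
        ← map_mul, hy2, map_one]; group
    rcases cent_sq φ hsq with ⟨-, hc2⟩ | ⟨-, hc2⟩
    rotate_left
    · exact absurd hc2 (hno c)
    obtain ⟨a, he'⟩ : ∃ a, emb φ a = h⁻¹ * emb φ y * h := by
      rcases invol_cent φ hR hc2 with rfl | rfl
      · exact ⟨b, by rw [← hbc, mu_apply, Subgroup.coe_one, mul_one]⟩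
      · exact ⟨b * negCo0, by rw [← hbc, mu_apply, map_mul]; rfl⟩
    have hback : h * emb φ a * h⁻¹ = emb φ y := by rw [he']; group
    refine ⟨a, classes_one (emb_inj φ ?_) ?_ ?_, (isConj_iff.2 ⟨h, hback⟩).symm, ?_⟩
    · rw [map_mul, map_one, he',
        show h⁻¹ * emb φ y * h * (h⁻¹ * emb φ y * h) = h⁻¹ * (emb φ y * emb φ y) * h by group,
        ← map_mul, hy2, map_one]; group
    · rintro rfl
      rw [map_one, mul_one, mul_inv_cancel, ← map_one (emb φ)] at hback
      exact hy1 (emb_inj φ hback).symm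
    · rintro rfl
      exact hne (emb_inj φ (hh.symm.trans hback))
    · refine (isConj_iff.2 ⟨h, ?_⟩).symm
      rw [map_mul (emb φ) x y, ← hh, ← hback, ← negCo0_commute a, map_mul, ← tt]
      group
  have hu : ¬ IsConj (tt φ) (emb φ u0) := by
    intro hu
    have hP : inCode 3927223 = true ∧ inCode (3927223 ^^^ full) = true ∧
        inCode (sqMask ^^^ 3927223) = true ∧ inCode ((sqMask ^^^ 3927223) ^^^ full) = true ∧
        popCount (3927223 ^^^ full) 24 = 8 ∧ popCount ((sqMask ^^^ 3927223) ^^^ full) 24 = 8 := by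
      decide +kernel
    have hy := conj_t0 hP.1 hP.2.1 hP.2.2.2.2.1
    have hxy := conj_t0 hP.2.2.1 hP.2.2.2.1 hP.2.2.2.2.2
    rw [← dg_mul sq_code hP.1 hP.2.2.1 rfl] at hxy
    obtain ⟨a, ha, h1, h2⟩ := key hu (dg_comm sq_code hP.1) (dg_sq hP.1)
      (fun e => E8Cent.t0_ne_one (isConj_one_left.1 (by rwa [e] at hy))) (fun e => by
        rw [show dg sqMask sq_code = dg 3927223 hP.1 from e, dg_sq] at hxy
        exact E8Cent.t0_ne_one (isConj_one_left.1 hxy))
    have n1 : ¬ IsConj (tt φ) (emb φ a) := fun e =>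
      h0 ((e.trans h1.symm).trans (conj_emb φ hy).symm)
    rcases ha with r | r | r
    · exact h0 (((he.trans (conj_emb φ (conj_neg r))).trans h2.symm).trans (conj_emb φ hxy).symm)
    · exact n1 (he.trans (conj_emb φ r))
    · exact n1 (hu.trans (conj_emb φ r))
  have hO : inCode 5279 = true ∧ popCount 5279 24 = 8 ∧ inCode (E8Cent.oMask ^^^ 5279) = true ∧
      popCount (E8Cent.oMask ^^^ 5279) 24 = 8 := by decide +kernel
  have hxy := conj_e0 hO.2.2.1 hO.2.2.2
  rw [← dg_mul x_code.2 hO.1 hO.2.2.1 rfl] at hxy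
  have hy := conj_e0 hO.1 hO.2.1
  have e0ne : e0 ≠ 1 := fun e => t0_ne_neg (by rw [← e0_neg, e, one_mul])
  obtain ⟨a, ha, h1, h2⟩ := key he (e0_eq ▸ dg_comm x_code.2 hO.1) (dg_sq hO.1)
    (fun e => e0ne (isConj_one_left.1 (by rwa [e] at hy))) (fun e => by
      rw [e0_eq] at e
      rw [e, dg_sq] at hxy
      exact e0ne (isConj_one_left.1 hxy))
  rw [e0_eq] at h2
  have hSa : IsConj (tt φ) (emb φ a) := (he.trans (conj_emb φ hy)).trans h1
  have hSb : IsConj (tt φ) (emb φ (a * negCo0)) := (he.trans (conj_emb φ hxy)).trans h2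
  rcases ha with r | r | r
  · exact h0 (hSa.trans (conj_emb φ r).symm)
  · have := conj_neg r
    rw [e0_neg] at this
    exact h0 (hSb.trans (conj_emb φ this).symm)
  · exact hu (hSa.trans (conj_emb φ r).symm)

/-- The central involution is isolated. -/
theorem isolated : IsIsolated (tt φ) := by
  intro g hg
  by_contra hne
  set y := g * tt φ * g⁻¹ with hydef
  have hS : IsConj (tt φ) y := isConj_iff.2 ⟨g, hydef.symm⟩
  obtain ⟨h0, he⟩ : ¬ IsConj (tt φ) (emb φ t0) ∧ ¬ IsConj (tt φ) (emb φ e0) := by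
    by_cases hno : ∀ d : Subgroup.centralizer (A : Set G), d * d ≠ tC φ
    · exact ⟨not_t0_of_no_root φ hR hA hno, not_e0_of_no_root φ hR hA hno⟩
    · simp only [not_forall, not_not] at hno
      obtain ⟨c0, hc0⟩ := hno
      exact ⟨not_four_of_root φ hR hA hc0 (Or.inl rfl), not_four_of_root φ hR hA hc0 (Or.inr rfl)⟩
  have hz : ∀ {m : ℕ} (hm : inCode m = true), inCode (m ^^^ full) = true →
      (popCount m 24 = 8 ∨ popCount (m ^^^ full) 24 = 8) → ¬ IsConj (tt φ) (emb φ (dg m hm)) := by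
    intro m hm hm' hw hS
    rcases hw with w | w
    · exact he (hS.trans (conj_emb φ (conj_e0 hm w)).symm)
    · exact h0 (hS.trans (conj_emb φ (conj_t0 hm hm' w)).symm)
  have hu : ¬ IsConj (tt φ) (emb φ u0) := by
    intro hu
    have hD : inCode 28637 = true ∧ popCount 28637 24 = 12 ∧ inCode (sqMask ^^^ 28637) = true ∧
        inCode ((sqMask ^^^ 28637) ^^^ full) = true ∧ popCount (sqMask ^^^ 28637) 24 = 8 := by decide +kernel
    have hne : emb φ u0 ≠ emb φ (dg 28637 hD.1) := fun e => by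
      have h1 : dg sqMask sq_code * dg 28637 hD.1 = 1 := by
        rw [show dg sqMask sq_code = dg 28637 hD.1 from emb_inj φ e, dg_sq]
      rw [dg_mul sq_code hD.1 hD.2.2.1 rfl] at h1
      exact t0_ne_neg (by
        have h2 := conj_e0 hD.2.2.1 hD.2.2.2.2
        rw [h1] at h2
        rw [← e0_neg, isConj_one_left.1 h2, one_mul])
    have h := fused_prod φ hR hA h0 he hu (hu.trans (conj_emb φ (dodecad_conj hD.1 hD.2.1)))
      ((dg_comm sq_code hD.1).map (emb φ)) hne
    rw [← map_mul, show u0 = dg sqMask sq_code from rfl, dg_mul sq_code hD.1 hD.2.2.1 rfl] at h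
    exact hz _ hD.2.2.2.1 (Or.inl hD.2.2.2.2) h
  obtain ⟨⟨a, c⟩, hp⟩ := exists_decomp φ hA hg.symm
  have hsq : mu φ (a, c) * mu φ (a, c) = 1 := by
    rw [hp, hydef, show g * tt φ * g⁻¹ * (g * tt φ * g⁻¹) = g * (tt φ * tt φ) * g⁻¹ by group, tt_sq]; group
  have hy1 : y ≠ 1 := fun e => tt_ne φ (conj_eq_one_iff.1 e)
  rcases cent_sq φ hsq with ⟨ha, hc⟩ | ⟨ha, hc⟩
  · obtain ⟨a', he'⟩ : ∃ a', emb φ a' = y := by
      rcases invol_cent φ hR hc with rfl | rfl
      · exact ⟨a, by rw [← hp, mu_apply, Subgroup.coe_one, mul_one]⟩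
      · exact ⟨a * negCo0, by rw [← hp, mu_apply, map_mul]; rfl⟩
    have h2 : a' * a' = 1 := emb_inj φ (by rw [map_mul, map_one, he', ← hp, hsq])
    rcases classes_one h2 (fun e => hy1 (by rw [← he', e, map_one])) (fun e => hne (by rw [← he', e]; rfl))
      with r | r | r <;> rw [← he'] at hS
    · exact h0 (hS.trans (conj_emb φ r).symm)
    · exact he (hS.trans (conj_emb φ r).symm)
    · exact hu (hS.trans (conj_emb φ r).symm)
  · have hmove : ∀ {a b : Co0}, IsConj a b → IsConj (mu φ (a, c)) (mu φ (b, c)) := by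
      intro a b h
      obtain ⟨k, rfl⟩ := isConj_iff.1 h
      refine isConj_iff.2 ⟨mu φ (k, 1), ?_⟩
      rw [← map_inv, ← map_mul, ← map_mul, Prod.inv_mk, Prod.mk_mul_mk, Prod.mk_mul_mk]
      simp
    have hb : IsConj (tt φ) (mu φ (b0, c)) := (hp ▸ hS).trans (hmove (classes_neg ha).symm)
    have hsq' : b0 * dg 15777 oct_code.1 * (b0 * dg 15777 oct_code.1) = negCo0 := by
      rw [show b0 * dg 15777 oct_code.1 * (b0 * dg 15777 oct_code.1) =
        b0 * (dg 15777 oct_code.1 * b0) * dg 15777 oct_code.1 by group, ← b0_dg.eq, ← mul_assoc, b0_sq,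
        mul_assoc, dg_sq, mul_one]
    have hb' : IsConj (tt φ) (mu φ (b0 * dg 15777 oct_code.1, c)) := hb.trans (hmove (classes_neg hsq'))
    have hcomm : Commute (mu φ (b0, c)) (mu φ (b0 * dg 15777 oct_code.1, c)) :=
      Commute.map (Commute.prod ((Commute.refl b0).mul_right b0_dg) (Commute.refl c)) (mu φ)
    have hprod : mu φ (b0, c) * mu φ (b0 * dg 15777 oct_code.1, c) = emb φ (dg 15777 oct_code.1) := by
      rw [← map_mul, Prod.mk_mul_mk, ← mul_assoc, b0_sq, hc, mu_apply, negCo0_commute, map_mul, mul_assoc]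
      show _ * (tt φ * tt φ) = _
      rw [tt_sq, mul_one]
    have hne' : mu φ (b0, c) ≠ mu φ (b0 * dg 15777 oct_code.1, c) := fun e => by
      rw [mu_apply, mu_apply] at e
      have h1 := conj_e0 oct_code.1 (by decide +kernel)
      rw [mul_eq_left.1 (emb_inj φ (mul_right_cancel e)).symm] at h1
      exact t0_ne_neg (by rw [← e0_neg, isConj_one_left.1 h1, one_mul])
    exact hz _ oct_code.2 (Or.inl (by decide +kernel))
      (hprod ▸ fused_prod φ hR hA h0 he hb hb' hcomm hne')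

include φ in
/-- **The component is normal.** -/
theorem normal (hO : Cfsg.oddCore G = ⊥) : A.Normal := by
  have h := BrauerSuzuki.zStar G (tt φ) (orderOf_eq_prime (by rw [pow_two, tt_sq]) (tt_ne φ))
    (isolated φ hR hA)
  refine ⟨fun n hn g => ?_⟩
  have hg : Commute g (tt φ) := by
    have e := h g
    rw [show Cfsg.pPrimeCore 2 G = ⊥ from hO, Subgroup.mem_bot, mul_inv_eq_one, mul_inv_eq_iff_eq_mul] at e
    exact e
  exact (Subgroup.mem_normalizer_iff.1 (mem_normalizer_of_comm hA (tt_cent φ)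
    (orderOf_eq_prime (by rw [pow_two, tt_sq]) (tt_ne φ)) hg) n).1 hn

end Cfsg.Agent.Co0Std
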