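import Cfsg.Agent.Lib.Co1Recog.Endgame.Defs
import Cfsg.Agent.Lib.Co1Recog.Endgame.Model
import Cfsg.Agent.S5378

/-!
The three classes of involutions of Co₁ with representatives, in a form with a small import closure.
-/

set_option autoImplicit false
set_option maxRecDepth 20000

namespace Cfsg.Agent.Co0Std

open Cfsg Cfsg.Agent.Golay Cfsg.Agent.Leech Cfsg.Agent.PermCert
open Cfsg.Agent.Co1Endgame (Mo okMo monoP moEl moEl_eq uMo bMo zMo oneMo oneMo_ok idElt full pMask aTest trEight
  trZero fixMask HasTr SqOne hasTr_prod sqB sqB_of sqOne_mk)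
open Cfsg.Agent.E8Cent (piH piH_eq z1 t0)

theorem small_facts : okMo uMo = true ∧ okMo bMo = true ∧ okMo zMo = true ∧
    Nat.beq (pMask bMo bMo) full = true ∧ trZero (fixMask bMo.2 idElt) (pMask bMo oneMo) = true ∧
    trZero (fixMask idElt idElt) (pMask uMo oneMo) = true ∧ aTest zMo oneMo = true := by decide +kernel

theorem uMo_ok : okMo uMo = true := small_facts.1

theorem bMo_ok : okMo bMo = true := small_facts.2.1

theorem zMo_ok : okMo zMo = true := small_facts.2.2.1

theorem idElt_perm : permOf idElt = 1 := by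
  refine Equiv.ext fun p => idx_injective ?_
  rw [idx_permOf (by decide +kernel)]
  revert p; decide +kernel

theorem moEl_one : moEl oneMo = 1 := by
  rw [moEl_eq oneMo_ok, ← map_one piH, ← diag_zero]
  refine congrArg piH (congrArg mono (Prod.ext (Subtype.ext idElt_perm) (Subtype.ext ?_)))
  exact ofMask_zero

theorem z1_eq : z1 = moEl zMo := by
  rw [moEl_eq zMo_ok, z1, t0, Leech.diag]
  refine congrArg piH (congrArg mono (Prod.ext (Subtype.ext ?_) (Subtype.ext ?_)))
  · exact idElt_perm.symm
  · rfl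

theorem tr_z : HasTr z1 64 := by
  have := hasTr_prod zMo_ok oneMo_ok
  rw [moEl_one, mul_one, ← z1_eq] at this
  have h := small_facts.2.2.2.2.2.2
  simp only [aTest, trEight, Bool.or_eq_true, Nat.beq_eq] at h
  convert this using 1
  rcases h with h | h
  · rw [show (popCount (fixMask zMo.2 oneMo.2) 24 : ℤ) =
      2 * popCount (pMask zMo oneMo &&& fixMask zMo.2 oneMo.2) 24 + 8 by exact_mod_cast h]
    norm_num
  · rw [show (2 * popCount (pMask zMo oneMo &&& fixMask zMo.2 oneMo.2) 24 : ℤ) =
      popCount (fixMask zMo.2 oneMo.2) 24 + 8 by exact_mod_cast h]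
    norm_num

theorem hasTr_zero {e : Mo} (he : okMo e = true) (h : trZero (fixMask e.2 idElt) (pMask e oneMo) = true) :
    HasTr (moEl e) 0 := by
  have := hasTr_prod he oneMo_ok
  rw [moEl_one, mul_one] at this
  rw [trZero, Nat.beq_eq] at h
  convert this using 1
  rw [show oneMo.2 = idElt from rfl, h]
  push_cast
  norm_num

theorem tr_u : HasTr (moEl uMo) 0 := hasTr_zero uMo_ok small_facts.2.2.2.2.2.1

theorem tr_b : HasTr (moEl bMo) 0 := hasTr_zero bMo_ok small_facts.2.2.2.2.1

theorem hasTr_one : HasTr (1 : Spor.Co1) 192 := by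
  have := hasTr_prod oneMo_ok oneMo_ok
  rw [moEl_one, mul_one] at this
  have e : popCount (fixMask idElt idElt) 24 = 24 ∧
      popCount (pMask oneMo oneMo &&& fixMask idElt idElt) 24 = 0 := by decide +kernel
  rw [show oneMo.2 = idElt from rfl, e.1, e.2] at this
  norm_num at this
  exact this

theorem order_of {x : Spor.Co1} (h : HasTr x 0) (h2 : x * x = 1) : orderOf x = 2 :=
  orderOf_eq_prime (by rw [pow_two, h2]) fun e => absurd (h.unique (e ▸ hasTr_one)) (by norm_num)

theorem not_sqOne_b : ¬ SqOne (moEl bMo) := fun h => by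
  have := sqB_of bMo_ok h
  rw [sqB, Bool.and_eq_true, Nat.beq_eq, Nat.eq_of_beq_eq_true small_facts.2.2.2.1] at this
  exact absurd this.2 (by decide)

theorem u_lift : mono (monoP uMo uMo_ok) * mono (monoP uMo uMo_ok) = 1 := by
  rw [mono_mul, ← diag_zero, Leech.diag]
  refine congrArg mono (Prod.ext (Subtype.ext ?_) (Subtype.ext ?_))
  · show permOf idElt * permOf idElt = 1
    rw [idElt_perm, one_mul]
  · show (ofMask uMo.1 + fun i => ofMask uMo.1 ((permOf idElt).symm i)) = 0
    rw [idElt_perm]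
    exact funext fun i => CharTwo.add_self_eq_zero _

theorem b_lift : mono (monoP bMo bMo_ok) * mono (monoP bMo bMo_ok) = negCo0 := by
  obtain ⟨p1, p2⟩ := Co1Endgame.pairMul_monoP bMo_ok bMo_ok
  rw [mono_mul, negCo0]
  refine congrArg mono (Prod.ext (Subtype.ext (p1.trans ?_)) (Subtype.ext (p2.trans ?_)))
  · refine Equiv.ext fun p => idx_injective ?_
    rw [Co1Endgame.idx_mul (Co1Endgame.okMo_parts bMo_ok).1 (Co1Endgame.okMo_parts bMo_ok).1]
    revert p; decide +kernel
  · show ofMask (pMask bMo bMo) = 1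
    rw [Nat.eq_of_beq_eq_true small_facts.2.2.2.1, one_eq]

theorem trichotomy {x : Spor.Co1} (hx : orderOf x = 2) :
    IsConj x z1 ∨ IsConj x (moEl uMo) ∨ IsConj x (moEl bMo) := by
  obtain ⟨z, hz, Q, hQn, hF, hQ, hcard, ⟨e⟩, hnwc⟩ := E8Cent.co1_main
  obtain ⟨p, q, r, -, -, -, -, -, -, hall⟩ :=
    Cfsg.Agent.S5378.result (G := Spor.Co1) z hz Q hF hQ hcard e hnwc
  have hzu : ¬ IsConj z1 (moEl uMo) := fun h => absurd ((tr_z.conj h).unique tr_u) (by norm_num)
  have hzb : ¬ IsConj z1 (moEl bMo) := fun h => absurd ((tr_z.conj h).unique tr_b) (by norm_num)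
  have hub : ¬ IsConj (moEl uMo) (moEl bMo) := fun h =>
    not_sqOne_b ((moEl_eq uMo_ok ▸ sqOne_mk u_lift).conj h)
  have ez := hall _ E8Cent.z1_order
  have eu := hall _ (order_of tr_u (by rw [moEl_eq uMo_ok, ← map_mul, u_lift, map_one]))
  have eb := hall _ (order_of tr_b (by
    rw [moEl_eq bMo_ok, ← map_mul, b_lift, ← map_one piH]
    exact (piH_eq.2 (Or.inr (one_mul _).symm)).symm))
  rcases hall _ hx with a | a | a <;> rcases ez with b | b | b <;> rcases eu with c | c | c <;>
    rcases eb with d | d | d <;>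
    first
      | exact (hzu (b.trans c.symm)).elim
      | exact (hzb (b.trans d.symm)).elim
      | exact (hub (c.trans d.symm)).elim
      | exact Or.inl (a.trans b.symm)
      | exact Or.inr (Or.inl (a.trans c.symm))
      | exact Or.inr (Or.inr (a.trans d.symm))

end Cfsg.Agent.Co0Std
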